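import Mathlib
import Cfsg.Agent.Lib.Helper81.CS3.NGDefs

/-!
# CS3 (S4284), part NG, package MIX: for `m` prime, type (i) and type (ii) elements
cannot coexist.
-/

set_option autoImplicit false

namespace Cfsg.Agent.Lib.Helper5.CS3

open Cfsg.Agent.Lib.Helper81.CS3

universe u

variable {G : Type u} [Group G]

theorem mix_ncard_carrier (x : G) :
    (ConjClasses.mk x).carrier.ncard = (Subgroup.centralizer ({x} : Set G)).index := by
  rw [← ConjAct.orbit_eq_carrier_conjClasses, ← MulAction.index_stabilizer,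
    Subgroup.centralizer_eq_comap_stabilizer]
  exact (Subgroup.index_comap_of_surjective _ (ConjAct.toConjAct (G := G)).surjective).symm

theorem mix_idx_conj (k x : G) : idx (k * x * k⁻¹) = idx x := by
  unfold idx
  rw [← mix_ncard_carrier, ← mix_ncard_carrier]
  congr 2
  exact ConjClasses.mk_eq_mk_iff_isConj.mpr (isConj_iff.mpr ⟨k⁻¹, by group⟩)

theorem mix_orderOf_conj (k x : G) : orderOf (k * x * k⁻¹) = orderOf x :=
  MulEquiv.orderOf_eq (MulAut.conj k) x

theorem mix_commute_conj {k x y : G} (h : Commute x y) :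
    Commute (k * x * k⁻¹) (k * y * k⁻¹) := by
  have h' : x * y = y * x := h
  show k * x * k⁻¹ * (k * y * k⁻¹) = k * y * k⁻¹ * (k * x * k⁻¹)
  calc k * x * k⁻¹ * (k * y * k⁻¹) = k * (x * y) * k⁻¹ := by group
    _ = k * (y * x) * k⁻¹ := by rw [h']
    _ = k * y * k⁻¹ * (k * x * k⁻¹) := by group

theorem mix_mem_cent {g k : G} : k ∈ Subgroup.centralizer ({g} : Set G) ↔ Commute k g :=
  Subgroup.mem_centralizer_singleton_iff

theorem mix_mem_smul_sylow_iff {p : ℕ} (Q : Sylow p G) (c s : G) :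
    s ∈ ((c • Q : Sylow p G) : Subgroup G) ↔ c⁻¹ * s * c ∈ (Q : Subgroup G) := by
  rw [Sylow.coe_subgroup_smul, Subgroup.mem_pointwise_smul_iff_inv_smul_mem]
  simp [MulAut.smul_def]

/-- a `p`-element of `K` is `K`-conjugate into a subgroup `S ≤ K` of full `p`-power order. -/
theorem mix_conj_into [Finite G] {p : ℕ} (hp : p.Prime) (K S : Subgroup G) (hSK : S ≤ K)
    (hcard : Nat.card S = p ^ (Nat.card K).factorization p) (y : G) (hy : y ∈ K)
    (k : ℕ) (hyo : orderOf y = p ^ k) : ∃ d ∈ K, d * y * d⁻¹ ∈ S := by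
  have : Fact p.Prime := ⟨hp⟩
  have hc' : Nat.card (S.subgroupOf K) = p ^ (Nat.card K).factorization p := by
    rw [← hcard]; exact Nat.card_congr (Subgroup.subgroupOfEquivOfLe hSK).toEquiv
  have hz : IsPGroup p (Subgroup.zpowers (⟨y, hy⟩ : K)) := by
    refine IsPGroup.of_card (n := k) ?_
    rw [Nat.card_zpowers, ← hyo]
    exact Subgroup.orderOf_mk y hy
  obtain ⟨Q, hQ⟩ := hz.exists_le_sylow
  obtain ⟨d, hd⟩ := MulAction.exists_smul_eq K Q (Sylow.ofCard (S.subgroupOf K) hc')
  refine ⟨d, d.2, ?_⟩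
  have h1 : (⟨y, hy⟩ : K) ∈ (Q : Subgroup K) := hQ (Subgroup.mem_zpowers _)
  have h2 : d * ⟨y, hy⟩ * d⁻¹ ∈ ((d • Q : Sylow p K) : Subgroup K) := by
    rw [mix_mem_smul_sylow_iff]
    have : d⁻¹ * (d * ⟨y, hy⟩ * d⁻¹) * d = ⟨y, hy⟩ := by group
    rw [this]; exact h1
  rw [hd] at h2
  have h3 : d * ⟨y, hy⟩ * d⁻¹ ∈ S.subgroupOf K := h2
  rw [Subgroup.mem_subgroupOf] at h3
  simpa using h3

/-- the `m`-part of `|G|` from the structure equation. -/
theorem mix_fact {m n N cS cA j : ℕ} (hmp : m.Prime) (hcop : m.Coprime n)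
    (hcard : cS * cA * (m * n) = N) (hj : cS = m ^ j) (hA : cA.Coprime m) (hN : N ≠ 0) :
    N.factorization m = j + 1 := by
  subst hj
  have hA0 : cA ≠ 0 := by rintro rfl; simp at hcard; exact hN hcard.symm
  have hn0 : n ≠ 0 := by rintro rfl; simp at hcard; exact hN hcard.symm
  have e : N = m ^ (j + 1) * (cA * n) := by rw [← hcard]; ring
  have hcn : ¬ m ∣ cA * n := by
    intro h
    rcases (Nat.Prime.dvd_mul hmp).mp h with h | h
    · exact (Nat.Prime.coprime_iff_not_dvd hmp).mp hA.symm h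
    · exact (Nat.Prime.coprime_iff_not_dvd hmp).mp hcop h
  rw [e, Nat.factorization_mul (pow_ne_zero _ hmp.ne_zero) (mul_ne_zero hA0 hn0)]
  simp [Nat.Prime.factorization_pow hmp, Nat.factorization_eq_zero_of_not_dvd hcn]

theorem mix_card_inf_mul_relIndex (K L : Subgroup G) :
    Nat.card (K ⊓ L : Subgroup G) * K.relIndex L = Nat.card L := by
  have h := Subgroup.relIndex_inf_mul_relIndex (⊥ : Subgroup G) K L
  rwa [bot_inf_eq, Subgroup.relIndex_bot_left, Subgroup.relIndex_bot_left] at h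

/-- a normal subgroup of order coprime to the index of `C` lies in `C`. -/
theorem mix_normal_le [Finite G] (A C : Subgroup G) [A.Normal]
    (hco : (Nat.card A).Coprime C.index) : A ≤ C := by
  have hCT : C ≤ C ⊔ A := le_sup_left
  have hAT : A ≤ C ⊔ A := le_sup_right
  have e1 : Nat.card A * A.relIndex (C ⊔ A) = Nat.card (C ⊔ A : Subgroup G) := by
    have := mix_card_inf_mul_relIndex A (C ⊔ A)
    rwa [inf_eq_left.mpr hAT] at this
  have e2 : A.relIndex (C ⊔ A) = A.relIndex C := Subgroup.relIndex_sup_right C A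
  have e3 : Nat.card (A ⊓ C : Subgroup G) * A.relIndex C = Nat.card C :=
    mix_card_inf_mul_relIndex A C
  have e4 : Nat.card C * C.relIndex (C ⊔ A) = Nat.card (C ⊔ A : Subgroup G) := by
    have := mix_card_inf_mul_relIndex C (C ⊔ A)
    rwa [inf_eq_left.mpr hCT] at this
  have e5 : C.relIndex (C ⊔ A) ∣ C.index := Subgroup.relIndex_dvd_index_of_le hCT
  have hr : A.relIndex C ≠ 0 := by
    intro h
    rw [h, mul_zero] at e3
    exact Nat.card_pos.ne' e3.symm
  have e6 : Nat.card A = Nat.card (A ⊓ C : Subgroup G) * C.relIndex (C ⊔ A) := by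
    rw [e2] at e1
    have : Nat.card A * A.relIndex C =
        Nat.card (A ⊓ C : Subgroup G) * C.relIndex (C ⊔ A) * A.relIndex C := by
      rw [e1, ← e4, ← e3]; ring
    exact Nat.eq_of_mul_eq_mul_right (Nat.pos_of_ne_zero hr) this
  have e7 : C.relIndex (C ⊔ A) ∣ Nat.card A := ⟨_, by rw [e6]; ring⟩
  have h9 := Nat.dvd_gcd e7 e5
  rw [Nat.Coprime.gcd_eq_one hco] at h9
  have e8 : C.relIndex (C ⊔ A) = 1 := Nat.dvd_one.mp h9
  exact hAT.trans (Subgroup.relIndex_eq_one.mp e8)

/-- if `σ x σ⁻¹ = x c` with `c` central and `σ ^ N = 1` then `c ^ N = 1`. -/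
theorem mix_central_pow (σ x c : G) (hc : c ∈ Subgroup.center G) (h : σ * x * σ⁻¹ = x * c)
    (N : ℕ) (hN : σ ^ N = 1) : c ^ N = 1 := by
  have hcσ : Commute σ c := (Subgroup.mem_center_iff.mp hc σ)
  have hcx : x * c = c * x := (Subgroup.mem_center_iff.mp hc x)
  have h1 : σ * c = x⁻¹ * σ * x⁻¹⁻¹ := by
    rw [inv_inv]
    have h2 : σ * x = x * c * σ := by rw [← h]; group
    calc σ * c = c * σ := hcσ.eq
      _ = x⁻¹ * (x * c * σ) := by group
      _ = x⁻¹ * σ * x := by rw [← h2]; group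
  have h3 : (σ * c) ^ N = 1 := by
    rw [h1, conj_pow, hN]; group
  rw [hcσ.mul_pow, hN, one_mul] at h3
  exact h3

theorem pkgMix (hSyl : PkgSyl.{u}) (hStr : PkgStr.{u}) (hNC : PkgNC.{u}) (hAb : PkgAb.{u})
    (hNor : PkgNor.{u}) (hStepA : PkgStepA.{u}) : PkgMix.{u} := by
  intro G _ _ m n hyp hng hmp b1 b2 hb1 hb1' hb2 hb2'
  have hm1 : 1 < m := hyp.2.1
  have hcop : m.Coprime n := hyp.2.2.2.1
  have hidx : ∀ x : G, idx x = 1 ∨ idx x = m ∨ idx x = m * n := by
    intro x
    have h : idx x ∈ Set.range (fun x : G => (Subgroup.centralizer ({x} : Set G)).index) :=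
      ⟨x, rfl⟩
    rw [hyp.2.2.2.2] at h
    simpa using h
  have hcardG : Nat.card G ≠ 0 := Nat.card_pos.ne'
  have hcenter : ∀ x : G, idx x = 1 → x ∈ Subgroup.center G := by
    intro x hx
    have htop : Subgroup.centralizer ({x} : Set G) = ⊤ := Subgroup.index_eq_one.mp hx
    rw [Subgroup.mem_center_iff]
    intro g
    have hg : g ∈ Subgroup.centralizer ({x} : Set G) := by rw [htop]; exact Subgroup.mem_top g
    exact (mix_mem_cent.mp hg).eq
  -- the `m`-part of a centralizer of index `m`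
  have hfactC : ∀ u : G, idx u = m →
      (Nat.card (Subgroup.centralizer ({u} : Set G))).factorization m + 1
        = (Nat.card G).factorization m := by
    intro u hu
    have hKcard : Nat.card (Subgroup.centralizer ({u} : Set G)) * m = Nat.card G := by
      rw [← hu]; exact Subgroup.card_mul_index _
    have hK0 : Nat.card (Subgroup.centralizer ({u} : Set G)) ≠ 0 := Nat.card_pos.ne'
    rw [← hKcard, Nat.factorization_mul hK0 hmp.ne_zero, Finsupp.add_apply,
      hmp.factorization_self]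
  -- type (ii) passes between commuting elements
  have hsame : ∀ b b' : G, PM m m b → Commute b b' → TypeII m n m b' → TypeII m n m b := by
    intro b b' hb hbb' hII u hu hco
    obtain ⟨-, Sb, Ab, hSb, hAbm, hcen, -, -, -⟩ := hStr m n hyp hng m b hb
    have hu' : u ∈ Ab := (hAbm u).mpr ⟨hu, hco⟩
    have h1 : Commute b' u := hcen u hu' b' hbb'.symm
    exact hII u h1.symm hco
  have hPMconj : ∀ k b : G, PM m m b → PM m m (k * b * k⁻¹) := by
    intro k b hb
    refine ⟨hb.1, hb.2.1, ?_, ?_⟩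
    · obtain ⟨e, he⟩ := hb.2.2.1
      exact ⟨e, by rw [mix_orderOf_conj]; exact he⟩
    · intro hz
      have h1 := (inferInstance : (Subgroup.center G).Normal).conj_mem _ hz k⁻¹
      have e : k⁻¹ * (k * b * k⁻¹) * k⁻¹⁻¹ = b := by group
      rw [e] at h1
      exact hb.2.2.2 h1
  have hIIconj : ∀ k b : G, TypeII m n m (k * b * k⁻¹) → TypeII m n m b := by
    intro k b hII u hu hco
    have h1 := hII (k * u * k⁻¹) (mix_commute_conj hu) (by rw [mix_orderOf_conj]; exact hco)
    rwa [mix_idx_conj] at h1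
  -- CLAIM A
  have claimA : ∀ b u : G, PM m m b → ¬ TypeII m n m b → Commute u b2 →
      (orderOf u).Coprime m → u ∉ Subgroup.center G → ¬ Commute u b := by
    intro b u hb hbI hu2 hco hunc hub
    obtain ⟨hib2, S2, A2, hS2, hA2, hcen2, hcard2, ⟨j2, hj2⟩, hcop2⟩ :=
      hStr m n hyp hng m b2 hb2
    have hiu : idx u = m := by
      rcases hidx u with h | h | h
      · exact absurd (hcenter u h) hunc
      · exact h
      · exact absurd h (hb2' u hu2 hco)
    have hS2K : S2 ≤ Subgroup.centralizer ({u} : Set G) := by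
      intro g hg
      have hg' := (hS2 g).mp hg
      exact mix_mem_cent.mpr (hcen2 u ((hA2 u).mpr ⟨hu2, hco⟩) g hg'.1)
    have hfact : (Nat.card G).factorization m = j2 + 1 :=
      mix_fact hmp hcop hcard2 hj2 hcop2 hcardG
    have hKfact : (Nat.card (Subgroup.centralizer ({u} : Set G))).factorization m = j2 := by
      have := hfactC u hiu
      omega
    have hbK : b ∈ Subgroup.centralizer ({u} : Set G) := mix_mem_cent.mpr hub.symm
    obtain ⟨kb, hkb⟩ := hb.2.2.1
    obtain ⟨d, hdK, hd⟩ := mix_conj_into hmp (Subgroup.centralizer ({u} : Set G)) S2 hS2K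
      (by rw [hj2, hKfact]) b hbK kb hkb
    have hb'2 : Commute (d * b * d⁻¹) b2 := ((hS2 _).mp hd).1
    have hPM' : PM m m (d * b * d⁻¹) := hPMconj d b hb
    have hII' : TypeII m n m (d * b * d⁻¹) := hsame _ b2 hPM' hb'2 hb2'
    exact hbI (hIIconj d b hII')
  -- data for b1, b2
  obtain ⟨hib1, S1, A1, hS1, hA1, hcen1, hcard1, ⟨j, hj1⟩, hcop1⟩ := hStr m n hyp hng m b1 hb1
  obtain ⟨hib2, S2, A2, hS2, hA2, hcen2, hcard2, ⟨j2, hj2⟩, hcop2⟩ := hStr m n hyp hng m b2 hb2
  have hab1 : AbC b1 := hAb m n hyp hng m b1 hb1 hb1'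
  obtain ⟨x1, r1, k1, hr1, hr1m, hox1, hx1b1, hix1⟩ := hStepA m n hyp hng b1 hib1 hab1
  have hfact : (Nat.card G).factorization m = j + 1 := mix_fact hmp hcop hcard1 hj1 hcop1 hcardG
  have hx1co : (orderOf x1).Coprime m := by
    rw [hox1]
    exact Nat.Coprime.pow_left _
      ((Nat.coprime_primes hr1 hmp).mpr (fun h => hr1m (h ▸ dvd_rfl)))
  -- A2 is normal and centralized by x1
  have hA2n : A2.Normal := by
    constructor
    intro u hu g
    have hu' := (hA2 u).mp hu
    exact (hA2 _).mpr ⟨hNor m n hyp hng hmp b2 hb2 hb2' u g hu'.1 hu'.2,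
      by rw [mix_orderOf_conj]; exact hu'.2⟩
  have hx1A2 : ∀ u ∈ A2, Commute u x1 := by
    intro u hu
    have hle : A2 ≤ Subgroup.centralizer ({x1} : Set G) := by
      apply mix_normal_le
      have h1 : (Subgroup.centralizer ({x1} : Set G)).index = m := hix1
      rw [h1]
      exact hcop2
    exact mix_mem_cent.mp (hle hu)
  obtain ⟨x, hx2, hxco, hxnc⟩ := hNC m n hyp hng m b2 hb2
  have hxA2 : x ∈ A2 := (hA2 x).mpr ⟨hx2, hxco⟩
  have hxx1 : Commute x x1 := hx1A2 x hxA2
  have hb1S1 : b1 ∈ S1 := (hS1 b1).mpr ⟨Commute.refl b1, hb1.2.2.1⟩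
  -- Sylow subgroup containing S1
  have hfm : Fact m.Prime := ⟨hmp⟩
  have hS1p : IsPGroup m S1 := IsPGroup.of_card hj1
  obtain ⟨S, hS1S⟩ := hS1p.exists_le_sylow
  have hScard : Nat.card (S : Subgroup G) = m ^ (j + 1) := by
    rw [← hfact]; exact Sylow.card_eq_multiplicity S
  have hrel : S1.relIndex (S : Subgroup G) = m := by
    have h := mix_card_inf_mul_relIndex S1 (S : Subgroup G)
    rw [inf_eq_left.mpr hS1S, hj1, hScard, pow_succ] at h
    exact Nat.eq_of_mul_eq_mul_left (pow_pos hmp.pos j) h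
  have hS1n : (S1.subgroupOf (S : Subgroup G)).Normal := by
    apply Subgroup.normal_of_index_eq_minFac_card
    show S1.relIndex (S : Subgroup G) = _
    rw [hrel, hScard, Nat.Prime.pow_minFac hmp (Nat.succ_ne_zero j)]
  have hconjS1 : ∀ σ ∈ (S : Subgroup G), ∀ t ∈ S1, σ * t * σ⁻¹ ∈ S1 := by
    intro σ hσ t ht
    have h1 := hS1n.conj_mem ⟨t, hS1S ht⟩ (Subgroup.mem_subgroupOf.mpr ht) ⟨σ, hσ⟩
    rw [Subgroup.mem_subgroupOf] at h1
    simpa using h1
  -- S ∩ C(x1) = S1
  have hSx1 : ∀ σ ∈ (S : Subgroup G), Commute σ x1 → σ ∈ S1 := by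
    intro σ hσ hσx1
    have hle : S1 ≤ (S : Subgroup G) ⊓ Subgroup.centralizer ({x1} : Set G) := by
      intro t ht
      exact ⟨hS1S ht, mix_mem_cent.mpr (hab1 t x1 ((hS1 t).mp ht).1 hx1b1)⟩
    have hd1 : Nat.card ((S : Subgroup G) ⊓ Subgroup.centralizer ({x1} : Set G) : Subgroup G)
        ∣ m ^ (j + 1) := by
      rw [← hScard]; exact Subgroup.card_dvd_of_le inf_le_left
    obtain ⟨i, -, hi⟩ := (Nat.dvd_prime_pow hmp).mp hd1
    have hd2 : Nat.card ((S : Subgroup G) ⊓ Subgroup.centralizer ({x1} : Set G) : Subgroup G)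
        ∣ Nat.card (Subgroup.centralizer ({x1} : Set G)) := Subgroup.card_dvd_of_le inf_le_right
    rw [hi] at hd2
    have hij : i ≤ j := by
      have h1 := (Nat.Prime.pow_dvd_iff_le_factorization hmp
        (Nat.card_pos.ne' : Nat.card (Subgroup.centralizer ({x1} : Set G)) ≠ 0)).mp hd2
      have h2 := hfactC x1 hix1
      omega
    have heq : S1 = (S : Subgroup G) ⊓ Subgroup.centralizer ({x1} : Set G) := by
      apply Subgroup.eq_of_le_of_card_ge hle
      rw [hi, hj1]
      exact Nat.pow_le_pow_right hmp.pos hij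
    rw [heq]
    exact ⟨hσ, mix_mem_cent.mpr hσx1⟩
  -- (b) elements of S1 commuting with x are central
  have hS1x : ∀ σ ∈ S1, Commute σ x → σ ∈ Subgroup.center G := by
    intro σ hσ hσx
    by_contra hσnc
    have hσ' := (hS1 σ).mp hσ
    have hPMσ : PM m m σ := ⟨hmp, dvd_rfl, hσ'.2, hσnc⟩
    have hσI : ¬ TypeII m n m σ := fun h => hb1' (hsame b1 σ hb1 hσ'.1.symm h)
    exact claimA σ x hPMσ hσI hx2 hxco hxnc hσx.symm
  -- (a) elements of S commuting with w commute with x and x1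
  have hSw : ∀ σ ∈ (S : Subgroup G), Commute σ (x * x1) → Commute σ x ∧ Commute σ x1 := by
    intro σ hσ hσw
    have hσx : Commute σ x := by
      have e1 : σ * x * σ⁻¹ * (σ * x1 * σ⁻¹) = x * x1 := by
        have h1 : σ * (x * x1) = x * x1 * σ := hσw.eq
        calc σ * x * σ⁻¹ * (σ * x1 * σ⁻¹) = σ * (x * x1) * σ⁻¹ := by group
          _ = x * x1 * σ * σ⁻¹ := by rw [h1]
          _ = x * x1 := by group
      have e2 : x⁻¹ * (σ * x * σ⁻¹) = x1 * (σ * x1 * σ⁻¹)⁻¹ := by
        have h2 : σ * x * σ⁻¹ = x * x1 * (σ * x1 * σ⁻¹)⁻¹ := eq_mul_inv_of_mul_eq e1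
        rw [h2]; group
      have hcA2 : x⁻¹ * (σ * x * σ⁻¹) ∈ A2 :=
        A2.mul_mem (A2.inv_mem hxA2) (hA2n.conj_mem x hxA2 σ)
      have hc2 := (hA2 _).mp hcA2
      -- commutes with b1
      have hb' : σ⁻¹ * b1 * σ ∈ S1 := by
        have := hconjS1 σ⁻¹ ((S : Subgroup G).inv_mem hσ) b1 hb1S1
        rwa [inv_inv] at this
      have h3 : Commute x1 (σ⁻¹ * b1 * σ) := hab1 _ _ hx1b1 ((hS1 _).mp hb').1
      have h4 : Commute (σ * x1 * σ⁻¹) b1 := by
        have h5 := mix_commute_conj (k := σ) h3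
        have e3 : σ * (σ⁻¹ * b1 * σ) * σ⁻¹ = b1 := by group
        rwa [e3] at h5
      have hcb1 : Commute (x⁻¹ * (σ * x * σ⁻¹)) b1 := by
        rw [e2]
        exact Commute.mul_left hx1b1 (Commute.inv_left h4)
      have hcZ : x⁻¹ * (σ * x * σ⁻¹) ∈ Subgroup.center G := by
        by_contra hnc
        exact claimA b1 _ hb1 hb1' hc2.1 hc2.2 hnc hcb1
      obtain ⟨e, he⟩ := S.isPGroup' ⟨σ, hσ⟩
      have he' : σ ^ m ^ e = 1 := by
        have := congrArg Subtype.val he
        simpa using this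
      have hc1 : (x⁻¹ * (σ * x * σ⁻¹)) ^ m ^ e = 1 :=
        mix_central_pow σ x _ hcZ (by group) _ he'
      have hord : orderOf (x⁻¹ * (σ * x * σ⁻¹)) = 1 :=
        Nat.Coprime.eq_one_of_dvd (Nat.Coprime.pow_right e hc2.2) (orderOf_dvd_of_pow_eq_one hc1)
      have hone : x⁻¹ * (σ * x * σ⁻¹) = 1 := orderOf_eq_one_iff.mp hord
      have h6 : σ * x * σ⁻¹ = x := by
        have := congrArg (fun t => x * t) hone
        simpa using this
      show σ * x = x * σ
      calc σ * x = σ * x * σ⁻¹ * σ := by group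
        _ = x * σ := by rw [h6]
    refine ⟨hσx, ?_⟩
    have h7 : Commute σ (x⁻¹ * (x * x1)) := Commute.mul_right (Commute.inv_right hσx) hσw
    rwa [inv_mul_cancel_left] at h7
  -- (c) idx w = m n
  have hiw : idx (x * x1) = m * n := by
    by_contra hne
    have hle : idx (x * x1) ≤ m := by
      rcases hidx (x * x1) with h | h | h
      · rw [h]; exact hm1.le
      · exact h.le
      · exact absurd h hne
    have hT2 : Subgroup.centralizer ({x * x1} : Set G) ⊓ (S : Subgroup G)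
        ≤ S1 ⊓ Subgroup.center G := by
      intro σ hσ
      have h1 := hSw σ hσ.2 (mix_mem_cent.mp hσ.1)
      have h2 := hSx1 σ hσ.2 h1.2
      exact ⟨h2, hS1x σ h2 h1.1⟩
    have hc1 := mix_card_inf_mul_relIndex (Subgroup.centralizer ({x * x1} : Set G))
      (S : Subgroup G)
    rw [hScard] at hc1
    have hr1 : (Subgroup.centralizer ({x * x1} : Set G)).relIndex (S : Subgroup G) ≤ m := by
      have h1 := Subgroup.relIndex_le_of_le_right (H := Subgroup.centralizer ({x * x1} : Set G))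
        (le_top : (S : Subgroup G) ≤ ⊤)
        (by rw [Subgroup.relIndex_top_right]; exact Subgroup.index_ne_zero_of_finite)
      rw [Subgroup.relIndex_top_right] at h1
      exact h1.trans hle
    have hc2 : Nat.card (Subgroup.centralizer ({x * x1} : Set G) ⊓ (S : Subgroup G) : Subgroup G)
        ≤ Nat.card (S1 ⊓ Subgroup.center G : Subgroup G) := Subgroup.card_le_of_le hT2
    have hc3 : m * Nat.card (S1 ⊓ Subgroup.center G : Subgroup G) ≤ m ^ j := by
      have hd : Nat.card (S1 ⊓ Subgroup.center G : Subgroup G) ∣ m ^ j := by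
        rw [← hj1]; exact Subgroup.card_dvd_of_le inf_le_left
      obtain ⟨i, hi, hi'⟩ := (Nat.dvd_prime_pow hmp).mp hd
      have hij : i < j := by
        rcases Nat.lt_or_ge i j with h | h
        · exact h
        · exfalso
          have heq : S1 ⊓ Subgroup.center G = S1 := by
            apply Subgroup.eq_of_le_of_card_ge inf_le_left
            rw [hi', hj1]
            exact Nat.pow_le_pow_right hmp.pos h
          have : b1 ∈ S1 ⊓ Subgroup.center G := by rw [heq]; exact hb1S1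
          exact hb1.2.2.2 this.2
      rw [hi', ← pow_succ']
      exact Nat.pow_le_pow_right hmp.pos hij
    have hpos : 0 < m ^ j := pow_pos hmp.pos j
    have h8 : m ^ (j + 1) ≤ Nat.card (S1 ⊓ Subgroup.center G : Subgroup G) * m := by
      rw [← hc1]
      exact Nat.mul_le_mul hc2 hr1
    have h9 : m ^ (j + 1) = m * m ^ j := pow_succ' m j
    nlinarith
  -- (5)
  obtain ⟨bs, hbs, hbsw⟩ := hSyl m n hyp m hmp dvd_rfl (x * x1)
  have hwco : (orderOf (x * x1)).Coprime m := by
    have hdvd : orderOf (x * x1) ∣ orderOf x * orderOf x1 := by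
      apply orderOf_dvd_of_pow_eq_one
      rw [hxx1.mul_pow, pow_mul, pow_orderOf_eq_one, one_pow, mul_comm (orderOf x), pow_mul,
        pow_orderOf_eq_one, one_pow, one_mul]
    exact Nat.Coprime.coprime_dvd_left hdvd (Nat.Coprime.mul_left hxco hx1co)
  have hbsI : ¬ TypeII m n m bs := fun h => h (x * x1) hbsw.symm hwco hiw
  obtain ⟨hibs, Ss, As, hSs, hAs, hcens, -, -, -⟩ := hStr m n hyp hng m bs hbs
  have hle : Subgroup.centralizer ({bs} : Set G) ≤ Subgroup.centralizer ({x * x1} : Set G) := by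
    intro g hg
    exact mix_mem_cent.mpr (hcens (x * x1) ((hAs _).mpr ⟨hbsw.symm, hwco⟩) g (mix_mem_cent.mp hg))
  have hrel1 : (Subgroup.centralizer ({bs} : Set G)).relIndex
      (Subgroup.centralizer ({x * x1} : Set G)) = 1 := by
    have h1 := Subgroup.relIndex_mul_index hle
    have h2 : (Subgroup.centralizer ({x * x1} : Set G)).index = m * n := hiw
    have h3 : (Subgroup.centralizer ({bs} : Set G)).index = m * n := hibs
    rw [h2, h3] at h1
    have hmn : 0 < m * n := Nat.mul_pos hmp.pos hyp.2.2.1.le |> fun h => by omega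
    exact Nat.eq_of_mul_eq_mul_right hmn (by rw [h1, one_mul])
  have hge := Subgroup.relIndex_eq_one.mp hrel1
  have hxw : x ∈ Subgroup.centralizer ({x * x1} : Set G) :=
    mix_mem_cent.mpr (Commute.mul_right (Commute.refl x) hxx1)
  exact claimA bs x hbs hbsI hx2 hxco hxnc (mix_mem_cent.mp (hge hxw))

end Cfsg.Agent.Lib.Helper5.CS3
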